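import Groth.Agent.FlatMor.CechH1.Global
import Groth.Agent.VanQC.Model

/-!
# Cohomology of a proper scheme over a local ring with small closed fibre
-/

set_option autoImplicit false
set_option linter.style.haveILetI false

universe u

open CategoryTheory Limits Opposite TopologicalSpace AlgebraicGeometry

namespace Groth.Agent.ModifLib

variable {X : Scheme.{u}}

/-- Vanishing Čech cohomology kills cohomology. -/
theorem subsingleton_HH_of_cechExact {ι : Type u} (U : ι → X.Opens) (hcov : iSup U = ⊤)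
    (haff : ∀ {n : ℕ} (x : Fin (n + 1) → ι), IsAffineOpen (FlatMor.CechH1.iO U x))
    (M : X.Modules) [M.IsQuasicoherent] (n : ℕ)
    (hex : CohAff.CechExact (X := X.toPresheafedSpace.carrier) M.presheaf U n) :
    Subsingleton (Coh.HH X M (n + 1)) := by
  haveI : Coh.IsQCoh M := ‹_›
  obtain ⟨c⟩ := CohTop.CechBasic.cech_eq_HU U (n + 1) (Coh.toAb M)
    (fun m x q => LocCoh.Punctured.subsingleton_HU_of_isAffineOpen _ (haff x) q)
  have e : CohTop.cechH (Coh.toAb M).obj U (n + 1) ≃+ CohTop.HU (Coh.toAb M) (n + 1) ⊤ := hcov ▸ c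
  have e' := e.trans (CohTop.Basic.HEquivHUTop (Coh.toAb M) (n + 1)).symm
  have h1 : Subsingleton (CohTop.cechH (Coh.toAb M).obj U (n + 1)) :=
    AddCommGrpCat.subsingleton_of_isZero ((CohAff.isZero_homology_iff_cechExact _ U n).mpr hex)
  exact e'.symm.toEquiv.subsingleton

/-- Over a local base, the closed fibre bounds the Čech dimension. -/
theorem exists_van (A : Type u) [CommRing A] [IsLocalRing A] (f : X ⟶ Spec (CommRingCat.of A)) [IsProper f]
    (d : ℕ) (hd : topologicalKrullDim ↥(f.fiber (IsLocalRing.closedPoint A)) ≤ d) :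
    ∃ (ι : Type u) (_ : Finite ι) (U : ι → X.Opens), iSup U = ⊤ ∧
      (∀ {n : ℕ} (x : Fin (n + 1) → ι), IsAffineOpen (FlatMor.CechH1.iO U x)) ∧ VanQC.Van U d := by
  obtain ⟨V, hV, hc, X₀, ι, _, U, hcov, haff, hvan, h, hh⟩ := VanQC.exists_van_core f (IsLocalRing.closedPoint A) d hd
  haveI := hh
  obtain rfl : V = ⊤ := top_unique fun p _ =>
    (IsLocalRing.specializes_closedPoint (R := A) p).mem_open V.2 hc
  obtain ⟨D, hD⟩ := VanQC.exists_model_of_affine f U hcov haff hvan h
  exact ⟨D.ι, D.fin, D.U, top_unique fun p _ => D.cov trivial, D.aff, hD⟩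

/-- Vanishing above the dimension of the closed fibre. -/
theorem subsingleton_HH_of_fiber_le (A : Type u) [CommRing A] [IsLocalRing A] (f : X ⟶ Spec (CommRingCat.of A))
    [IsProper f] (d : ℕ) (hd : topologicalKrullDim ↥(f.fiber (IsLocalRing.closedPoint A)) ≤ d)
    (M : X.Modules) [hM : M.IsQuasicoherent] (p : ℕ) (hp : d < p) : Subsingleton (Coh.HH X M p) := by
  obtain ⟨ι, _, U, hcov, haff, hvan⟩ := exists_van A f d hd
  obtain ⟨n, rfl⟩ : ∃ n, p = n + 1 := ⟨p - 1, by omega⟩
  exact subsingleton_HH_of_cechExact U hcov haff M n (hvan M hM n (by omega))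

/-- Quotients of free modules have no first cohomology when the structure sheaf has none and the
closed fibre is at most one-dimensional. -/
theorem subsingleton_HH_one_of_globallyGenerated (A : Type u) [CommRing A] [IsLocalRing A]
    (f : X ⟶ Spec (CommRingCat.of A)) [IsProper f]
    (hd : topologicalKrullDim ↥(f.fiber (IsLocalRing.closedPoint A)) ≤ 1)
    (hO : Subsingleton (Coh.HH X (Coh.structureModule X) 1))
    (F : X.Modules) [F.IsQuasicoherent] {κ : Type u}
    (e : (∐ fun _ : κ => Coh.structureModule X) ⟶ F) [Epi e] : Subsingleton (Coh.HH X F 1) := by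
  classical
  obtain ⟨ι, _, U, hcov, haff, hvan⟩ := exists_van A f 1 (by exact_mod_cast hd)
  refine subsingleton_HH_of_cechExact U hcov haff F 0 fun z hz => ?_
  haveI := Fintype.ofFinite ι
  have hloc := fun x : Fin 2 → ι => FlatMor.CechH1.exists_finset_sum e (haff x) (z x)
  choose S a ha using hloc
  let T : Finset κ := Finset.univ.biUnion S
  let σ : Fin T.card → κ := fun j => (T.equivFin.symm j).1
  let sec : κ → Γ(F, (⊤ : X.Opens)) := fun i =>
    (Sigma.ι (fun _ : κ => Coh.structureModule X) i ≫ e).app ⊤ (1 : Γ(X, ⊤))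
  have hspan : ∀ x, ∃ b : Fin T.card → Γ(X, FlatMor.CechH1.iO U x),
      z x = ∑ j, b j • F.presheaf.map (homOfLE le_top).op (sec (σ j)) := fun x => by
    refine ⟨fun j => if σ j ∈ S x then a x (σ j) else 0, (ha x).trans ?_⟩
    have h1 : ∑ i ∈ S x, a x i • F.presheaf.map (homOfLE (le_top : FlatMor.CechH1.iO U x ≤ ⊤)).op (sec i) =
        ∑ i ∈ T, (if i ∈ S x then a x i else 0) •
          F.presheaf.map (homOfLE (le_top : FlatMor.CechH1.iO U x ≤ ⊤)).op (sec i) := by
      refine Finset.sum_subset_zero_on_sdiff (Finset.subset_biUnion_of_mem S (Finset.mem_univ x)) ?_ ?_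
      · intro i hi; rw [if_neg (Finset.mem_sdiff.1 hi).2, zero_smul]
      · intro i hi; rw [if_pos hi]
    refine h1.trans ?_
    rw [← Finset.sum_coe_sort T]
    exact (Equiv.sum_comp T.equivFin.symm
      (fun i : T => (if i.1 ∈ S x then a x i.1 else 0) • F.presheaf.map (homOfLE (le_top : FlatMor.CechH1.iO U x ≤ ⊤)).op (sec i.1))).symm
  obtain ⟨c, hc, hzc⟩ := FlatMor.CechH1.exists_cocycle_lift hvan F (fun j => sec (σ j)) z hz hspan
  have hex := (FlatMor.CechH1.exact1_iff_subsingleton U hcov haff).mpr hO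
  choose t ht using fun j => hex (c j) (hc j)
  refine ⟨∑ j, CohAff.cmap (Props.GenLocus.homOfSec (sec (σ j))).mapPresheaf U 0 (t j), ?_⟩
  rw [map_sum]
  funext x
  rw [Finset.sum_apply, hzc x]
  refine Finset.sum_congr rfl fun j _ => ?_
  rw [CohAff.cd_cmap, ht j, CohAff.cmap_apply]
  refine (Props.GenLocus.app_eq (Props.GenLocus.homOfSec (sec (σ j))) _ _).trans ?_
  rw [Props.GenLocus.sec_homOfSec]

end Groth.Agent.ModifLib
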