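import Groth.Agent.DimIneq.Basic
import Groth.Agent.LocCohSweep.ConnDim
import Mathlib.AlgebraicGeometry.Morphisms.Proper
import Mathlib.AlgebraicGeometry.Fiber
import Mathlib.AlgebraicGeometry.FunctionField

/-!
# The closed fibre of a modification of a two-dimensional local domain
-/

set_option autoImplicit false
set_option linter.style.haveILetI false
set_option backward.isDefEq.respectTransparency false
set_option backward.isDefEq.respectTransparency.types false

universe u

open CategoryTheory AlgebraicGeometry

namespace Groth.Agent.ModifLib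

/-- A modification does not increase the dimension. -/
theorem topologicalKrullDim_le {X S : Scheme.{u}} [IsLocallyNoetherian S] [IrreducibleSpace S]
    (f : X ⟶ S) [LocallyOfFiniteType f] [IrreducibleSpace X]
    (hbir : ∃ U : S.Opens, (U : Set S).Nonempty ∧ IsIso (f ∣_ U)) :
    f (genericPoint X) = genericPoint S ∧ topologicalKrullDim X ≤ topologicalKrullDim S := by
  obtain ⟨U, hU, hiso⟩ := hbir
  haveI := hiso
  have hη : genericPoint S ∈ U := ((genericPoint_spec S).mem_open_set_iff U.2).2 (by simpa using hU)
  let z := (inv (f ∣_ U)) ⟨_, hη⟩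
  have hz : f z.1 = genericPoint S := by
    rw [← morphismRestrict_base_coe f U z]
    show ((inv (f ∣_ U) ≫ f ∣_ U) ⟨_, hη⟩).1 = _
    rw [IsIso.inv_hom_id]
    rfl
  have hgen : f (genericPoint X) = genericPoint S := by
    have h1 : f (genericPoint X) ⤳ f z.1 := (genericPoint_specializes z.1).map f.continuous
    rw [hz] at h1
    exact (h1.antisymm (genericPoint_specializes _)).eq
  refine ⟨hgen, ?_⟩
  have hmain := DimIneq.topologicalKrullDim_le f 0 fun ξ hξ => ?_
  · simpa using hmain
  rw [irreducibleComponents_eq_singleton, Set.mem_singleton_iff] at hξ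
  obtain rfl : ξ = genericPoint X := (show IsGenericPoint ξ Set.univ from hξ).eq (genericPoint_spec X)
  letI := (f.residueFieldMap (genericPoint X)).hom.toAlgebra
  have hξU : genericPoint X ∈ f ⁻¹ᵁ U := by rw [Scheme.Hom.mem_preimage, hgen]; exact hη
  haveI : IsIso (f.stalkMap (genericPoint X)) :=
    ((MorphismProperty.isomorphisms CommRingCat.{u}).arrow_mk_iso_iff (morphismRestrictStalkMap f U ⟨_, hξU⟩)).1
      (show IsIso ((f ∣_ U).stalkMap ⟨_, hξU⟩) from inferInstance)
  have hs : Function.Surjective (algebraMap (S.residueField (f (genericPoint X))) (X.residueField (genericPoint X))) := by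
    intro r
    obtain ⟨a, rfl⟩ := Scheme.residue_surjective X _ r
    obtain ⟨c, rfl⟩ := (ConcreteCategory.bijective_of_isIso (f.stalkMap (genericPoint X))).2 a
    exact ⟨S.residue _ c, congr($(Scheme.residue_residueFieldMap f _).hom c)⟩
  haveI : Algebra.IsAlgebraic (S.residueField (f (genericPoint X))) (X.residueField (genericPoint X)) :=
    ⟨fun r => by obtain ⟨a, rfl⟩ := hs r; exact isAlgebraic_algebraMap a⟩
  exact (trdeg_eq_zero_iff.2 inferInstance).le

/-- The closed fibre of a modification of a two-dimensional local domain has dimension at most one. -/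
theorem topologicalKrullDim_fiber_le_one (A : Type u) [CommRing A] [IsDomain A] [IsLocalRing A]
    [IsNoetherianRing A] (hdim : ringKrullDim A = 2) {X : Scheme.{u}} (f : X ⟶ Spec (CommRingCat.of A))
    [LocallyOfFiniteType f] [IrreducibleSpace X]
    (hbir : ∃ U : (Spec (CommRingCat.of A)).Opens, (U : Set (Spec (CommRingCat.of A))).Nonempty ∧ IsIso (f ∣_ U)) :
    topologicalKrullDim ↥(f.fiber (IsLocalRing.closedPoint A)) ≤ 1 := by
  obtain ⟨hgen, hX⟩ := topologicalKrullDim_le f hbir
  rw [show topologicalKrullDim ↥(Spec (CommRingCat.of A)) = 2 from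
    (PrimeSpectrum.topologicalKrullDim_eq_ringKrullDim A).trans hdim] at hX
  let F : Set X := f ⁻¹' {IsLocalRing.closedPoint A}
  have hcl : IsClosed F := (IsLocalRing.isClosed_singleton_closedPoint A).preimage f.continuous
  have hne : F ⊂ Set.univ := by
    refine ⟨Set.subset_univ _, fun h => ?_⟩
    have h1 : f (genericPoint X) = IsLocalRing.closedPoint A := h trivial
    rw [hgen] at h1
    have h2 : (IsLocalRing.maximalIdeal A) = ⊥ := by
      have h3 : (⟨⊥, Ideal.isPrime_bot⟩ : PrimeSpectrum A) = IsLocalRing.closedPoint A := by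
        rw [← h1]
        exact (AlgebraicGeometry.genericPoint_eq_bot_of_affine (CommRingCat.of A)).symm
      exact (congrArg PrimeSpectrum.asIdeal h3).symm
    rw [ringKrullDim_eq_zero_of_isField (IsLocalRing.isField_iff_maximalIdeal_eq.mpr h2)] at hdim
    exact absurd hdim (by norm_num)
  have h := LocCohSweep.ConnDim.dim_add_one_le (T := X) (IrreducibleSpace.isIrreducible_univ _) hcl hne
  rw [LocCohSweep.ConnDim.dim_univ] at h
  have hF : topologicalKrullDim ↥(f.fiber (IsLocalRing.closedPoint A)) = topologicalKrullDim ↥F :=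
    IsHomeomorph.topologicalKrullDim_eq _ (f.fiberHomeo (IsLocalRing.closedPoint A)).isHomeomorph
  rw [hF]
  have h2 : topologicalKrullDim ↥F + 1 ≤ ((2 : ℕ) : WithBot ℕ∞) := h.trans hX
  generalize topologicalKrullDim ↥F = d at h2 ⊢
  cases d with
  | bot => exact bot_le
  | coe d =>
    have h3 : d + 1 ≤ 2 := WithBot.coe_le_coe.1 (h2.trans (le_of_eq (by norm_num)))
    have h4 : d ≤ 1 := ENat.addLECancellable_of_ne_top (by simp : (1 : ℕ∞) ≠ ⊤) |>.add_le_add_iff_right.1
      (h3.trans (le_of_eq (by norm_num)))
    exact_mod_cast h4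

end Groth.Agent.ModifLib
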